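import Mathlib

/-!
The largest product of parts of a composition of `n`: with arbitrary parts (`maxProd`) and with no
part equal to `2` (`maxProdNoTwo`), together with the parts occurring in a maximiser of the latter.
-/

namespace CfsgLib.AbelianPerm

/-- Largest product of parts with sum `n`. -/
def maxProd : ℕ → ℕ
  | 0 => 1
  | 1 => 1
  | 2 => 2
  | 3 => 3
  | 4 => 4
  | n + 5 => 3 * maxProd (n + 2)

/-- Largest product of parts with sum `n`, no part equal to `2`. -/
def maxProdNoTwo : ℕ → ℕ
  | 0 => 1
  | 1 => 1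
  | 2 => 1
  | 3 => 3
  | 4 => 4
  | 5 => 5
  | 6 => 9
  | 7 => 12
  | 8 => 16
  | n + 9 => 3 * maxProdNoTwo (n + 6)

theorem maxProd_add_three {n : ℕ} (h : 2 ≤ n) : maxProd (n + 3) = 3 * maxProd n := by
  obtain ⟨k, rfl⟩ : ∃ k, n = k + 2 := ⟨n - 2, by omega⟩
  conv_lhs => rw [show k + 2 + 3 = k + 5 by omega, maxProd]

theorem maxProdNoTwo_add_three {n : ℕ} (h : 6 ≤ n) :
    maxProdNoTwo (n + 3) = 3 * maxProdNoTwo n := by
  obtain ⟨k, rfl⟩ : ∃ k, n = k + 6 := ⟨n - 6, by omega⟩
  conv_lhs => rw [show k + 6 + 3 = k + 9 by omega, maxProdNoTwo]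

/-- Induction reducing by three. -/
theorem inductionThree {P : ℕ → Prop} (N : ℕ) (hN : 3 ≤ N) (hb : ∀ n, n < N → P n)
    (hs : ∀ n, N ≤ n + 3 → P n → P (n + 3)) (n : ℕ) : P n := by
  induction n using Nat.strong_induction_on with
  | _ n ih =>
    by_cases h : n < N
    · exact hb n h
    · obtain ⟨m, rfl⟩ : ∃ m, n = m + 3 := ⟨n - 3, by omega⟩
      exact hs m (by omega) (ih m (by omega))

theorem le_maxProd (n : ℕ) : n ≤ maxProd n := by
  induction n using inductionThree 5 (by norm_num) with
  | hb n h => interval_cases n <;> decide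
  | hs n h ih => rw [maxProd_add_three (by omega)]; omega

theorem maxProd_mul_le (a b : ℕ) : maxProd a * maxProd b ≤ maxProd (a + b) := by
  induction a using inductionThree 5 (by norm_num) with
  | hb a h =>
    induction b using inductionThree 5 (by norm_num) with
    | hb b h' => interval_cases a <;> interval_cases b <;> decide
    | hs b h' ih =>
      rw [maxProd_add_three (by omega), ← add_assoc, maxProd_add_three (by omega),
        Nat.mul_left_comm]
      exact Nat.mul_le_mul_left 3 ih
  | hs a h ih =>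
    rw [maxProd_add_three (by omega), add_right_comm, maxProd_add_three (by omega), Nat.mul_assoc]
    exact Nat.mul_le_mul_left 3 ih

theorem le_maxProdNoTwo {n : ℕ} (h2 : n ≠ 2) : n ≤ maxProdNoTwo n := by
  induction n using inductionThree 9 (by norm_num) with
  | hb n h => interval_cases n <;> first | decide | omega
  | hs n h ih => rw [maxProdNoTwo_add_three (by omega)]; have := ih (by omega); omega

theorem lt_maxProdNoTwo {n : ℕ} (h6 : 6 ≤ n) : n < maxProdNoTwo n := by
  induction n using inductionThree 9 (by norm_num) with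
  | hb n h => interval_cases n <;> decide
  | hs n h ih => rw [maxProdNoTwo_add_three (by omega)]; have := ih (by omega); omega

theorem maxProdNoTwo_pos (n : ℕ) : 0 < maxProdNoTwo n := by
  induction n using inductionThree 9 (by norm_num) with
  | hb n h => interval_cases n <;> decide
  | hs n h ih => rw [maxProdNoTwo_add_three (by omega)]; omega

theorem maxProdNoTwo_mul_le (a b : ℕ) :
    maxProdNoTwo a * maxProdNoTwo b ≤ maxProdNoTwo (a + b) := by
  induction a using inductionThree 9 (by norm_num) with
  | hb a h =>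
    induction b using inductionThree 9 (by norm_num) with
    | hb b h' => interval_cases a <;> interval_cases b <;> decide
    | hs b h' ih =>
      rw [maxProdNoTwo_add_three (by omega), ← add_assoc, maxProdNoTwo_add_three (by omega),
        Nat.mul_left_comm]
      exact Nat.mul_le_mul_left 3 ih
  | hs a h ih =>
    rw [maxProdNoTwo_add_three (by omega), add_right_comm, maxProdNoTwo_add_three (by omega),
      Nat.mul_assoc]
    exact Nat.mul_le_mul_left 3 ih

theorem maxProd_lt_two_mul {n : ℕ} (h3 : 3 ≤ n) : maxProd n < 2 * maxProdNoTwo n := by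
  induction n using inductionThree 9 (by norm_num) with
  | hb n h => interval_cases n <;> decide
  | hs n h ih =>
    rw [maxProdNoTwo_add_three (by omega), maxProd_add_three (by omega)]
    have := ih (by omega); omega

theorem maxProdNoTwo_lt_succ {n : ℕ} (h2 : 2 ≤ n) : maxProdNoTwo n < maxProdNoTwo (n + 1) := by
  induction n using inductionThree 9 (by norm_num) with
  | hb n h => interval_cases n <;> decide
  | hs n h ih =>
    rw [maxProdNoTwo_add_three (by omega), add_right_comm, maxProdNoTwo_add_three (by omega)]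
    have := ih (by omega); omega

theorem five_mul_lt {n : ℕ} (h1 : 1 ≤ n) : 5 * maxProdNoTwo n < maxProdNoTwo (n + 5) := by
  induction n using inductionThree 9 (by norm_num) with
  | hb n h => interval_cases n <;> decide
  | hs n h ih =>
    rw [maxProdNoTwo_add_three (by omega), add_right_comm, maxProdNoTwo_add_three (by omega)]
    have := ih (by omega); omega

variable {ι : Type*}

theorem prod_le_maxProd (s : Finset ι) (f : ι → ℕ) :
    ∏ i ∈ s, f i ≤ maxProd (∑ i ∈ s, f i) := by
  classical
  induction s using Finset.induction_on with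
  | empty => simp [maxProd]
  | insert a s ha ih =>
    rw [Finset.prod_insert ha, Finset.sum_insert ha]
    exact (Nat.mul_le_mul (le_maxProd _) ih).trans (maxProd_mul_le _ _)

theorem prod_le_maxProdNoTwo (s : Finset ι) (f : ι → ℕ) (h2 : ∀ i ∈ s, f i ≠ 2) :
    ∏ i ∈ s, f i ≤ maxProdNoTwo (∑ i ∈ s, f i) := by
  classical
  induction s using Finset.induction_on with
  | empty => simp [maxProdNoTwo]
  | insert a s ha ih =>
    rw [Finset.prod_insert ha, Finset.sum_insert ha]
    exact (Nat.mul_le_mul (le_maxProdNoTwo (h2 a (Finset.mem_insert_self a s)))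
      (ih fun i hi => h2 i (Finset.mem_insert_of_mem hi))).trans (maxProdNoTwo_mul_le _ _)

/-- The parts of a maximiser with no part `2`: all are `3` or `4`, unless it is `5` alone. -/
theorem parts_of_maximiser [Fintype ι] (f : ι → ℕ) {n : ℕ} (hn : 3 ≤ n) (hn5 : n ≠ 5)
    (hsum : ∑ i, f i = n) (h2 : ∀ i, f i ≠ 2) (hmax : maxProdNoTwo n ≤ ∏ i, f i) (i : ι) :
    f i = 3 ∨ f i = 4 := by
  classical
  have hsplit : f i + ∑ j ∈ Finset.univ.erase i, f j = n := by
    rw [Finset.add_sum_erase _ f (Finset.mem_univ i), hsum]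
  have hle : maxProdNoTwo n ≤ f i * maxProdNoTwo (∑ j ∈ Finset.univ.erase i, f j) := by
    refine hmax.trans ?_
    rw [← Finset.mul_prod_erase _ f (Finset.mem_univ i)]
    exact Nat.mul_le_mul_left _ (prod_le_maxProdNoTwo _ _ fun j _ => h2 j)
  set r := ∑ j ∈ Finset.univ.erase i, f j
  have hi2 := h2 i
  have hpos := maxProdNoTwo_pos n
  rcases Nat.lt_or_ge (f i) 6 with h | h
  · interval_cases hfi : f i
    · omega
    · rw [show n = r + 1 by omega] at hle
      have := maxProdNoTwo_lt_succ (n := r) (by omega)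
      omega
    · omega
    · exact Or.inl rfl
    · exact Or.inr rfl
    · rw [show n = r + 5 by omega] at hle
      have := five_mul_lt (n := r) (by omega)
      omega
  · have h1 : f i * maxProdNoTwo r < maxProdNoTwo (f i) * maxProdNoTwo r :=
      Nat.mul_lt_mul_of_pos_right (lt_maxProdNoTwo h) (maxProdNoTwo_pos r)
    have h3 := maxProdNoTwo_mul_le (f i) r
    rw [hsplit] at h3
    omega

theorem maxProd_three_mul (k : ℕ) (hk : 1 ≤ k) :
    maxProd (3 * k) = 3 ^ k ∧ maxProd (3 * k + 1) = 4 * 3 ^ (k - 1) ∧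
      maxProd (3 * k + 2) = 2 * 3 ^ k := by
  induction k, hk using Nat.le_induction with
  | base => decide
  | succ k hk ih =>
    rw [show 3 * (k + 1) = 3 * k + 3 by omega, show 3 * k + 3 + 1 = (3 * k + 1) + 3 by omega,
      show 3 * k + 3 + 2 = (3 * k + 2) + 3 by omega, maxProd_add_three (by omega),
      maxProd_add_three (by omega), maxProd_add_three (by omega), ih.1, ih.2.1, ih.2.2]
    obtain ⟨j, rfl⟩ : ∃ j, k = j + 1 := ⟨k - 1, by omega⟩
    simp only [Nat.add_sub_cancel, pow_succ]
    refine ⟨?_, ?_, ?_⟩ <;> ring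

theorem maxProdNoTwo_three_mul (k : ℕ) (hk : 2 ≤ k) :
    maxProdNoTwo (3 * k) = 3 ^ k ∧ maxProdNoTwo (3 * k + 1) = 4 * 3 ^ (k - 1) ∧
      maxProdNoTwo (3 * k + 2) = 16 * 3 ^ (k - 2) := by
  induction k, hk using Nat.le_induction with
  | base => decide
  | succ k hk ih =>
    rw [show 3 * (k + 1) = 3 * k + 3 by omega, show 3 * k + 3 + 1 = (3 * k + 1) + 3 by omega,
      show 3 * k + 3 + 2 = (3 * k + 2) + 3 by omega, maxProdNoTwo_add_three (by omega),
      maxProdNoTwo_add_three (by omega), maxProdNoTwo_add_three (by omega), ih.1, ih.2.1, ih.2.2]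
    obtain ⟨j, rfl⟩ : ∃ j, k = j + 2 := ⟨k - 2, by omega⟩
    simp only [Nat.add_sub_cancel, show j + 2 + 1 - 2 = j + 1 by omega,
      show j + 2 - 1 = j + 1 by omega, pow_succ]
    refine ⟨?_, ?_, ?_⟩ <;> ring

end CfsgLib.AbelianPerm
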