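import Mathlib
import Cfsg.Agent.Lib.AbelianPerm.Partition

/-!
Abelian permutation groups: orbit sizes, the bound `|A| ∣ ∏` of orbit sizes, and the structure of
the groups of maximal order among the abelian groups of even permutations.
-/

namespace CfsgLib.AbelianPerm

open Equiv MulAction

set_option linter.unusedSectionVars false

variable {α : Type*} [Fintype α] [DecidableEq α]

/-- The orbits of a permutation group. -/
abbrev Orb (A : Subgroup (Perm α)) := orbitRel.Quotient A α

/-- The orbit of a point. -/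
def cls (A : Subgroup (Perm α)) (x : α) : Orb A := Quotient.mk'' x

/-- The size of an orbit. -/
noncomputable def size (A : Subgroup (Perm α)) (ω : Orb A) : ℕ := Nat.card {x // cls A x = ω}

theorem cls_out (A : Subgroup (Perm α)) (ω : Orb A) : cls A ω.out = ω := Quotient.out_eq' ω

theorem cls_eq_iff {A : Subgroup (Perm α)} {x y : α} :
    cls A x = cls A y ↔ ∃ a : A, a • y = x := by
  rw [cls, cls, Quotient.eq'', orbitRel_apply, MulAction.mem_orbit_iff]

theorem cls_smul (A : Subgroup (Perm α)) (a : A) (x : α) : cls A (a • x) = cls A x :=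
  cls_eq_iff.2 ⟨a, rfl⟩

theorem sum_size (A : Subgroup (Perm α)) [Fintype (Orb A)] :
    ∑ ω, size A ω = Fintype.card α := by
  rw [← Nat.card_eq_fintype_card, ← Nat.card_congr (Equiv.sigmaFiberEquiv (cls A)), Nat.card_sigma]
  rfl

theorem size_pos (A : Subgroup (Perm α)) (ω : Orb A) : 0 < size A ω :=
  Nat.card_pos_iff.2 ⟨⟨⟨ω.out, cls_out A ω⟩⟩, inferInstance⟩

theorem size_eq_index (A : Subgroup (Perm α)) (x : α) :
    size A (cls A x) = (stabilizer A x).index := by
  rw [MulAction.index_stabilizer, size, ← Nat.card_coe_set_eq]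
  exact Nat.card_congr (Equiv.subtypeEquivRight fun y => by
    rw [cls_eq_iff, MulAction.mem_orbit_iff])

variable {A : Subgroup (Perm α)}

theorem comm_apply (hA : IsMulCommutative A) (a b : A) : a * b = b * a := hA.is_comm.comm a b

theorem stabilizer_normal (hA : IsMulCommutative A) (x : α) : (stabilizer A x).Normal :=
  ⟨fun h hh g => by rw [comm_apply hA g h, mul_inv_cancel_right]; exact hh⟩

theorem smul_eq_smul (hA : IsMulCommutative A) {a b : A} {x y : α} (h : a • x = b • x)
    (hy : cls A y = cls A x) : a • y = b • y := by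
  obtain ⟨c, rfl⟩ := cls_eq_iff.1 hy
  rw [smul_smul, smul_smul, comm_apply hA a c, comm_apply hA b c, ← smul_smul, ← smul_smul, h]

theorem eq_of_smul_out (hA : IsMulCommutative A) {a b : A}
    (h : ∀ ω : Orb A, a • ω.out = b • ω.out) : a = b := by
  refine Subtype.ext (Equiv.ext fun y => ?_)
  exact smul_eq_smul hA (h (cls A y)) (cls_out A (cls A y)).symm

/-- The map to the product of the regular quotients on the orbits is an injective homomorphism. -/
theorem card_dvd_and_exists [Fintype (Orb A)] (hA : IsMulCommutative A) :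
    Nat.card A ∣ ∏ ω, size A ω ∧
      (Nat.card A = ∏ ω, size A ω → ∀ c : Orb A → A, ∃ a : A, ∀ x, a • x = c (cls A x) • x) := by
  have hn : ∀ ω : Orb A, (stabilizer A ω.out).Normal := fun ω => stabilizer_normal hA _
  let Φ : A →* ∀ ω : Orb A, A ⧸ stabilizer A ω.out :=
    MonoidHom.pi fun ω => QuotientGroup.mk' (stabilizer A ω.out)
  have hΦ : ∀ a b : A, Φ a = Φ b ↔ ∀ ω : Orb A, a • ω.out = b • ω.out := by
    intro a b
    rw [funext_iff]
    refine forall_congr' fun ω => ?_
    show ((a : A ⧸ stabilizer A ω.out) = (b : A ⧸ stabilizer A ω.out)) ↔ _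
    rw [QuotientGroup.eq, mem_stabilizer_iff, mul_smul, inv_smul_eq_iff, eq_comm]
  have hinj : Function.Injective Φ := fun a b h => eq_of_smul_out hA ((hΦ a b).1 h)
  have hcard : Nat.card (∀ ω : Orb A, A ⧸ stabilizer A ω.out) = ∏ ω, size A ω := by
    rw [Nat.card_pi]
    refine Finset.prod_congr rfl fun ω _ => ?_
    rw [← Subgroup.index_eq_card, ← size_eq_index, cls_out]
  refine ⟨hcard ▸ Subgroup.card_dvd_of_injective Φ hinj, fun heq c => ?_⟩
  have hbij : Function.Bijective Φ :=
    (Nat.bijective_iff_injective_and_card Φ).2 ⟨hinj, heq.trans hcard.symm⟩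
  obtain ⟨a, ha⟩ := hbij.2 fun ω => QuotientGroup.mk' (stabilizer A ω.out) (c ω)
  refine ⟨a, fun x => smul_eq_smul hA (x := (cls A x).out) ?_ (cls_out A _).symm⟩
  have := congrFun ha (cls A x)
  change ((a : A ⧸ stabilizer A (cls A x).out) = (c (cls A x) : A ⧸ _)) at this
  rwa [QuotientGroup.eq, mem_stabilizer_iff, mul_smul, inv_smul_eq_iff, eq_comm] at this

theorem card_dvd [Fintype (Orb A)] (hA : IsMulCommutative A) :
    Nat.card A ∣ ∏ ω, size A ω := (card_dvd_and_exists hA).1

theorem card_le_maxProd (hA : IsMulCommutative A) : Nat.card A ≤ maxProd (Fintype.card α) := by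
  classical
  have := Fintype.ofFinite (Orb A)
  rw [← sum_size A]
  exact (Nat.le_of_dvd (Finset.prod_pos fun ω _ => size_pos A ω) (card_dvd hA)).trans
    (prod_le_maxProd _ _)

/-- A subgroup of full order contains an element acting on one orbit only. -/
theorem exists_local [Fintype (Orb A)] (hA : IsMulCommutative A)
    (heq : Nat.card A = ∏ ω, size A ω) (a : A) (x : α) :
    ∃ b : A, b • x = a • x ∧ ∀ y, cls A y ≠ cls A x → b • y = y := by
  classical
  obtain ⟨b, hb⟩ := (card_dvd_and_exists hA).2 heq fun ω => if ω = cls A x then a else 1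
  refine ⟨b, by rw [hb, if_pos rfl], fun y hy => by rw [hb, if_neg hy, one_smul]⟩

/-- The orbit of a point as a finite set. -/
noncomputable def orbSet (A : Subgroup (Perm α)) (x : α) : Finset α := by
  classical exact Finset.univ.filter fun y => cls A y = cls A x

theorem mem_orbSet {x y : α} : y ∈ orbSet A x ↔ cls A y = cls A x := by
  simp [orbSet]

theorem card_orbSet (A : Subgroup (Perm α)) (x : α) : (orbSet A x).card = size A (cls A x) := by
  classical
  rw [size, Nat.card_eq_fintype_card, Fintype.card_subtype, orbSet]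

theorem exists_move (x : α) (h : 2 ≤ size A (cls A x)) : ∃ a : A, a • x ≠ x := by
  rw [← card_orbSet] at h
  obtain ⟨y, hy, hne⟩ := Finset.exists_mem_ne (s := orbSet A x) (by omega) x
  obtain ⟨a, ha⟩ := cls_eq_iff.1 (mem_orbSet.1 hy)
  exact ⟨a, ha ▸ hne⟩

theorem size_ne_two [Fintype (Orb A)] (hA : IsMulCommutative A) (hAle : A ≤ alternatingGroup α)
    (heq : Nat.card A = ∏ ω, size A ω) (ω : Orb A) : size A ω ≠ 2 := by
  intro h2
  obtain ⟨x, rfl⟩ : ∃ x, cls A x = ω := ⟨ω.out, cls_out A ω⟩
  obtain ⟨a, ha⟩ := exists_move x h2.ge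
  obtain ⟨b, hbx, hb⟩ := exists_local hA heq a x
  have hsupp : (b : Perm α).support ⊆ orbSet A x := by
    intro y hy
    rw [Perm.mem_support] at hy
    exact mem_orbSet.2 (not_imp_comm.1 (hb y) hy)
  have h1 : (b : Perm α) ≠ 1 := by
    intro hb1
    exact ha (by rw [← hbx, Subgroup.smul_def, hb1, one_smul])
  have h3 := Finset.card_le_card hsupp
  rw [card_orbSet, h2] at h3
  have h4 := Perm.two_le_card_support_of_ne_one h1
  have hswap : (b : Perm α).IsSwap := Perm.card_support_eq_two.1 (by omega)
  have := hswap.sign_eq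
  rw [Perm.mem_alternatingGroup.1 (hAle b.2)] at this
  exact absurd this (by decide)

theorem sq_smul_of_size_four [Fintype (Orb A)] (hA : IsMulCommutative A)
    (hAle : A ≤ alternatingGroup α) (heq : Nat.card A = ∏ ω, size A ω) {x : α}
    (h4 : size A (cls A x) = 4) (a : A) : a ^ 2 • x = x := by
  by_contra hne
  obtain ⟨b, hbx, hb⟩ := exists_local hA heq a x
  have hsq : b ^ 2 • x = a ^ 2 • x := by
    rw [pow_two, pow_two, mul_smul, mul_smul, hbx, smul_eq_smul hA hbx (cls_smul A a x)]
  rw [← hsq] at hne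
  have := stabilizer_normal hA x
  have hpow : b ^ 4 • x = x := by
    rw [← mem_stabilizer_iff, ← h4, size_eq_index]
    exact Subgroup.pow_index_mem _ b
  have h1 : b • x ≠ x := fun h => hne (by rw [pow_two, mul_smul, h, h])
  have h3 : b ^ 3 • x ≠ x := fun h => h1 (by
    rw [show b ^ 4 = b * b ^ 3 by group, mul_smul, h] at hpow; exact hpow)
  set S : Finset α := {x, b • x, b ^ 2 • x, b ^ 3 • x}
  have hcard : S.card = 4 := by
    have e12 : b • x ≠ b ^ 2 • x := fun h => h1 ((MulAction.injective b) (by
      dsimp only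
      rw [smul_smul, ← pow_two]; exact h.symm))
    have e13 : b • x ≠ b ^ 3 • x := fun h => hne ((MulAction.injective b) (by
      dsimp only
      rw [smul_smul, ← pow_succ']; exact h.symm))
    have e23 : b ^ 2 • x ≠ b ^ 3 • x := fun h => h1 ((MulAction.injective (b ^ 2)) (by
      dsimp only
      rw [smul_smul, ← pow_succ]; exact h.symm))
    simp [S, Finset.card_insert_of_notMem, Ne.symm h1, Ne.symm hne, Ne.symm h3, e12, e13, e23]
  have hS : S = orbSet A x := by
    refine Finset.eq_of_subset_of_card_le (fun y hy => ?_) (by rw [card_orbSet, h4, hcard])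
    rw [mem_orbSet]
    simp only [S, Finset.mem_insert, Finset.mem_singleton] at hy
    rcases hy with rfl | rfl | rfl | rfl <;> first | rfl | exact cls_smul A _ _
  have hsupp : (b : Perm α).support = S := by
    rw [hS]
    ext y
    rw [Perm.mem_support, mem_orbSet]
    refine ⟨not_imp_comm.1 (hb y), fun hy h => h1 ?_⟩
    have := smul_eq_smul hA (a := b) (b := 1) (x := y) (y := x) (by rw [one_smul]; exact h) hy.symm
    rwa [one_smul] at this
  have hcyc : (b : Perm α).IsCycle := by
    refine ⟨x, h1, fun y hy => ?_⟩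
    have hyS : y ∈ S := hsupp ▸ Perm.mem_support.2 hy
    simp only [S, Finset.mem_insert, Finset.mem_singleton] at hyS
    rcases hyS with rfl | rfl | rfl | rfl
    · exact Perm.SameCycle.refl _ _
    · exact ⟨1, by simp [Subgroup.smul_def]⟩
    · exact ⟨2, by simp [Subgroup.smul_def, zpow_ofNat]⟩
    · exact ⟨3, by simp [Subgroup.smul_def, zpow_ofNat]⟩
  have := hcyc.sign
  rw [Perm.mem_alternatingGroup.1 (hAle b.2), hsupp, hcard] at this
  exact absurd this (by decide)

/-- Order bound and equality case for abelian groups of even permutations. -/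
theorem even_bound (hA : IsMulCommutative A) (hAle : A ≤ alternatingGroup α) [Fintype (Orb A)]
    (h3 : 3 ≤ Fintype.card α) :
    Nat.card A ≤ maxProdNoTwo (Fintype.card α) ∧
      (maxProdNoTwo (Fintype.card α) ≤ Nat.card A → Nat.card A = ∏ ω, size A ω) := by
  rw [← sum_size A] at h3 ⊢
  have hpos : 0 < ∏ ω, size A ω := Finset.prod_pos fun ω _ => size_pos A ω
  by_cases heq : Nat.card A = ∏ ω, size A ω
  · exact ⟨heq.trans_le (prod_le_maxProdNoTwo _ _ fun ω _ => size_ne_two hA hAle heq ω),
      fun _ => heq⟩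
  · obtain ⟨d, hd⟩ := card_dvd hA
    have h1 : 2 * Nat.card A ≤ ∏ ω, size A ω := by
      have : d ≠ 0 := fun h => by rw [h, mul_zero] at hd; omega
      have : d ≠ 1 := fun h => heq (by rw [hd, h, mul_one])
      rw [hd, Nat.mul_comm 2]
      exact Nat.mul_le_mul_left _ (by omega)
    have h2 := prod_le_maxProd Finset.univ (size A)
    have h4 := maxProd_lt_two_mul h3
    exact ⟨by omega, fun h => by omega⟩

end CfsgLib.AbelianPerm
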