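import Mathlib
import Cfsg.Agent.Lib.AbelianPerm.Orbits

/-!
The largest abelian groups of even permutations are determined by their orbit partition, and any
two of them are conjugate under an even permutation.
-/

namespace CfsgLib.AbelianPerm

open Equiv MulAction

set_option linter.unusedSectionVars false

variable {α : Type*} [Fintype α] [DecidableEq α]

/-- The size of the fibre through a point. -/
noncomputable def fib {Ω : Type*} (c : α → Ω) (x : α) : ℕ := Nat.card {y // c y = c x}

/-- Permutations acting on each fibre of size `3` as the alternating group and on each fibre of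
size `4` as the Klein group. -/
structure Pattern {Ω : Type*} (c : α → Ω) (σ : Perm α) : Prop where
  stable : ∀ x, c (σ x) = c x
  semireg : ∀ x y, c y = c x → σ x = x → σ y = y
  three : ∀ x, fib c x = 3 → σ (σ (σ x)) = x
  four : ∀ x, fib c x = 4 → σ (σ x) = x

theorem fib_transport {Ω Ω' : Type*} {c : α → Ω} {c' : α → Ω'} {f : Ω → Ω'}
    (hf : Function.Injective f) (π : Perm α) (h : ∀ x, c' (π x) = f (c x)) (x : α) :
    fib c' (π x) = fib c x := by
  refine (Nat.card_congr (π.subtypeEquiv fun y => ?_)).symm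
  rw [h, h]
  exact hf.eq_iff.symm

theorem Pattern.transport {Ω Ω' : Type*} {c : α → Ω} {c' : α → Ω'} {f : Ω → Ω'}
    (hf : Function.Injective f) (π : Perm α) (h : ∀ x, c' (π x) = f (c x)) (σ : Perm α) :
    Pattern c' (π * σ * π⁻¹) ↔ Pattern c σ := by
  have hπ : ∀ x, (π * σ * π⁻¹) (π x) = π (σ x) := fun x => by simp [Perm.mul_apply]
  have hc : ∀ x y, c' (π x) = c' (π y) ↔ c x = c y := fun x y => by rw [h, h, hf.eq_iff]
  constructor
  · intro P
    constructor
    · intro x; rw [← hc, ← hπ]; exact P.stable _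
    · intro x y hxy hx
      have := P.semireg (π x) (π y) ((hc y x).2 hxy) (by rw [hπ, hx])
      rw [hπ] at this
      exact π.injective this
    · intro x h3
      have := P.three (π x) (by rw [fib_transport hf π h, h3])
      rw [hπ, hπ, hπ] at this
      exact π.injective this
    · intro x h4
      have := P.four (π x) (by rw [fib_transport hf π h, h4])
      rw [hπ, hπ] at this
      exact π.injective this
  · intro P
    constructor
    · intro y
      obtain ⟨x, rfl⟩ := π.surjective y
      rw [hπ, hc]; exact P.stable x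
    · intro y z hyz hy
      obtain ⟨x, rfl⟩ := π.surjective y
      obtain ⟨w, rfl⟩ := π.surjective z
      rw [hπ] at hy ⊢
      rw [P.semireg x w ((hc w x).1 hyz) (π.injective hy)]
    · intro y h3
      obtain ⟨x, rfl⟩ := π.surjective y
      rw [hπ, hπ, hπ, P.three x (by rwa [fib_transport hf π h] at h3)]
    · intro y h4
      obtain ⟨x, rfl⟩ := π.surjective y
      rw [hπ, hπ, P.four x (by rwa [fib_transport hf π h] at h4)]

theorem Pattern.agree {Ω : Type*} [DecidableEq Ω] {c : α → Ω} {σ τ : Perm α} (P : Pattern c σ)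
    (Q : Pattern c τ) {x y : α} (hx : σ x = τ x) (hy : c y = c x)
    (hfib : fib c x = 3 ∨ fib c x = 4) : σ y = τ y := by
  classical
  by_cases hfix : σ x = x
  · rw [P.semireg x y hy hfix, Q.semireg x y hy (hx ▸ hfix)]
  set S : Finset α := Finset.univ.filter fun z => c z = c x with hS
  have hmem : ∀ z, z ∈ S ↔ c z = c x := fun z => by simp [hS]
  have hcard : S.card = fib c x := by
    rw [fib, Nat.card_eq_fintype_card, Fintype.card_subtype]
  have hne : ∀ (ρ : Perm α), Pattern c ρ → ρ x ≠ x → ∀ z, c z = c x → ρ z ≠ z :=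
    fun ρ R hρ z hz h => hρ (R.semireg z x hz.symm h)
  have hfix' : τ x ≠ x := hx ▸ hfix
  have hσ := hne σ P hfix
  have hτ := hne τ Q hfix'
  have hsx : c (σ x) = c x := P.stable x
  rcases hfib with h3 | h4
  · have h2 : ∀ (ρ : Perm α), Pattern c ρ → ρ x ≠ x → ρ x = σ x →
        ρ (σ x) ≠ σ x ∧ ρ (σ x) ≠ x ∧ c (ρ (σ x)) = c x ∧ ρ (ρ (σ x)) = x := by
      intro ρ R hρ hρx
      have h := R.three x h3
      rw [hρx] at h
      refine ⟨hne ρ R hρ _ hsx, fun hh => ?_, (R.stable _).trans hsx, h⟩
      rw [hh, hρx] at h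
      exact hfix h
    obtain ⟨a1, a2, a3, a4⟩ := h2 σ P hfix rfl
    obtain ⟨b1, b2, b3, b4⟩ := h2 τ Q hfix' hx.symm
    have hSeq : ({x, σ x, σ (σ x)} : Finset α) = S := by
      refine Finset.eq_of_subset_of_card_le (fun z hz => (hmem z).2 ?_) ?_
      · simp only [Finset.mem_insert, Finset.mem_singleton] at hz
        rcases hz with rfl | rfl | rfl
        exacts [rfl, hsx, a3]
      · rw [hcard, h3, Finset.card_insert_of_notMem (by simp [Ne.symm hfix, Ne.symm a2]),
          Finset.card_pair (Ne.symm a1)]
    have hsec : τ (σ x) = σ (σ x) := by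
      have := (hmem _).2 b3
      rw [← hSeq] at this
      simpa [b1, b2] using this
    have := (hmem y).2 hy
    rw [← hSeq] at this
    simp only [Finset.mem_insert, Finset.mem_singleton] at this
    rcases this with rfl | rfl | rfl
    · exact hx
    · exact hsec.symm
    · rw [a4, ← hsec, b4]
  · by_cases hyx : y = x
    · rw [hyx, hx]
    by_cases hys : y = σ x
    · rw [hys, P.four x h4, hx, Q.four x h4]
    have hother : ∀ (ρ : Perm α), Pattern c ρ → ρ x ≠ x → ρ x = σ x →
        ρ y ∈ ((S.erase x).erase (σ x)).erase y := by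
      intro ρ R hρ hρx
      refine Finset.mem_erase.2 ⟨hne ρ R hρ y hy, Finset.mem_erase.2 ⟨fun h => ?_,
        Finset.mem_erase.2 ⟨fun h => ?_, (hmem _).2 ((R.stable y).trans hy)⟩⟩⟩
      · exact hyx (ρ.injective (h.trans hρx.symm))
      · apply hys
        have h' := congrArg ρ h
        have h4y : fib c y = 4 := by rw [fib, hy]; exact h4
        rwa [R.four y h4y, hρx] at h'
    have h1 : (((S.erase x).erase (σ x)).erase y).card ≤ 1 := by
      rw [Finset.card_erase_of_mem (by simp [hyx, hys, hmem, hy]),
        Finset.card_erase_of_mem (by simp [hfix, hmem, hsx]),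
        Finset.card_erase_of_mem ((hmem x).2 rfl), hcard, h4]
    exact Finset.card_le_one.1 h1 _ (hother σ P hfix rfl) _ (hother τ Q hfix' hx.symm)

variable {A : Subgroup (Perm α)}

theorem mem_iff_pattern [Fintype (Orb A)] (hA : IsMulCommutative A)
    (hAle : A ≤ alternatingGroup α) (heq : Nat.card A = ∏ ω, size A ω)
    (hsize : ∀ ω, size A ω = 3 ∨ size A ω = 4) (σ : Perm α) :
    σ ∈ A ↔ Pattern (cls A) σ := by
  classical
  have hP : ∀ a : A, Pattern (cls A) (a : Perm α) := by
    intro a
    constructor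
    · intro x; exact cls_smul A a x
    · intro x y hy hx
      have := smul_eq_smul hA (a := a) (b := 1) (x := x) (y := y)
        (by rw [one_smul]; exact hx) hy
      rwa [one_smul] at this
    · intro x h3
      have := stabilizer_normal hA x
      have h : a ^ 3 • x = x := by
        have h3' : size A (cls A x) = 3 := h3
        rw [← mem_stabilizer_iff, ← h3', size_eq_index]
        exact Subgroup.pow_index_mem _ a
      rwa [pow_three, mul_smul, mul_smul] at h
    · intro x h4
      have h := sq_smul_of_size_four hA hAle heq (x := x) h4 a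
      rwa [pow_two, mul_smul] at h
  refine ⟨fun h => hP ⟨σ, h⟩, fun P => ?_⟩
  have : ∀ ω : Orb A, ∃ a : A, a • ω.out = σ ω.out := fun ω => cls_eq_iff.1 (P.stable ω.out)
  choose c hc using this
  obtain ⟨a, ha⟩ := (card_dvd_and_exists hA).2 heq c
  suffices σ = (a : Perm α) from this ▸ a.2
  ext y
  refine P.agree (hP a) (x := (cls A y).out) ?_ (cls_out A _).symm (hsize (cls A (cls A y).out))
  rw [← hc, ← Perm.smul_def (f := (a : Perm α)), ← Subgroup.smul_def, ha, cls_out]


theorem exists_equiv_orb {B : Subgroup (Perm α)} [Fintype (Orb A)] [Fintype (Orb B)]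
    (hsA : ∀ ω, size A ω = 3 ∨ size A ω = 4) (hsB : ∀ ω, size B ω = 3 ∨ size B ω = 4)
    (hprod : ∏ ω, size A ω = ∏ ω, size B ω) :
    ∃ e : Orb A ≃ Orb B, ∀ ω, size B (e ω) = size A ω := by
  classical
  have hsum : ∑ ω, size A ω = ∑ ω, size B ω := (sum_size A).trans (sum_size B).symm
  have key : ∀ (C : Subgroup (Perm α)) [Fintype (Orb C)], (∀ ω, size C ω = 3 ∨ size C ω = 4) →
      ∑ ω, size C ω = 3 * (Finset.univ.filter fun ω => size C ω = 3).card +
          4 * (Finset.univ.filter fun ω => size C ω = 4).card ∧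
      ∏ ω, size C ω = 3 ^ (Finset.univ.filter fun ω => size C ω = 3).card *
          4 ^ (Finset.univ.filter fun ω => size C ω = 4).card := by
    intro C _ hC
    have hdis : (Finset.univ.filter fun ω => ¬ size C ω = 3) =
        Finset.univ.filter fun ω => size C ω = 4 := Finset.filter_congr fun ω _ => by
      rcases hC ω with h | h <;> simp [h]
    constructor
    · rw [← Finset.sum_filter_add_sum_filter_not Finset.univ (fun ω => size C ω = 3), hdis,
        Finset.sum_const_nat (m := 3) (by simp), Finset.sum_const_nat (m := 4) (by simp)]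
      ring
    · rw [← Finset.prod_filter_mul_prod_filter_not Finset.univ (fun ω => size C ω = 3), hdis,
        Finset.prod_eq_pow_card (b := 3) (by simp), Finset.prod_eq_pow_card (b := 4) (by simp)]
  obtain ⟨sA, pA⟩ := key A hsA
  obtain ⟨sB, pB⟩ := key B hsB
  rw [hprod, pB] at pA
  rw [hsum, sB] at sA
  set a3 := (Finset.univ.filter fun ω => size A ω = 3).card
  set a4 := (Finset.univ.filter fun ω => size A ω = 4).card
  set b3 := (Finset.univ.filter fun ω => size B ω = 3).card
  set b4 := (Finset.univ.filter fun ω => size B ω = 4).card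
  have hval : ∀ u v : ℕ, (3 ^ u * 4 ^ v).factorization 3 = u := by
    intro u v
    rw [Nat.factorization_mul (by positivity) (by positivity), Nat.factorization_pow,
      Nat.factorization_pow, Finsupp.add_apply]
    have : (4 : ℕ).factorization 3 = 0 := Nat.factorization_eq_zero_of_not_dvd (by norm_num)
    simp [this, Nat.prime_three.factorization_self]
  have h3 : b3 = a3 := by rw [← hval b3 b4, pA, hval]
  have h4 : b4 = a4 := by omega
  have hfib : ∀ m, Nonempty ({ω // size A ω = m} ≃ {ω // size B ω = m}) := by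
    intro m
    refine ⟨Fintype.equivOfCardEq ?_⟩
    rw [Fintype.card_subtype, Fintype.card_subtype]
    by_cases hm3 : m = 3
    · subst hm3; exact h3.symm
    by_cases hm4 : m = 4
    · subst hm4; exact h4.symm
    rw [Finset.filter_false_of_mem, Finset.filter_false_of_mem, Finset.card_empty, Finset.card_empty]
    · intro ω _; rcases hsB ω with h | h <;> omega
    · intro ω _; rcases hsA ω with h | h <;> omega
  refine ⟨Equiv.ofFiberEquiv fun m => (hfib m).some, fun ω => ?_⟩
  exact Equiv.ofFiberEquiv_map (f := size A) (g := size B) (fun m => (hfib m).some) ω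

/-- Two largest abelian groups of even permutations with orbits of sizes `3` and `4` are conjugate
under an even permutation. -/
theorem exists_conj {B : Subgroup (Perm α)} [Fintype (Orb A)] [Fintype (Orb B)]
    (hA : IsMulCommutative A) (hB : IsMulCommutative B)
    (hAle : A ≤ alternatingGroup α) (hBle : B ≤ alternatingGroup α)
    (heqA : Nat.card A = ∏ ω, size A ω) (heqB : Nat.card B = ∏ ω, size B ω)
    (hsA : ∀ ω, size A ω = 3 ∨ size A ω = 4) (hsB : ∀ ω, size B ω = 3 ∨ size B ω = 4)
    (hcard : Nat.card A = Nat.card B) :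
    ∃ π ∈ alternatingGroup α, ∀ σ, σ ∈ A ↔ π * σ * π⁻¹ ∈ B := by
  classical
  obtain ⟨e, he⟩ := exists_equiv_orb hsA hsB (heqA ▸ heqB ▸ hcard)
  have hf : ∀ ω, Nonempty ({x // cls A x = ω} ≃ {y // cls B y = e ω}) :=
    fun ω => ⟨Fintype.equivOfCardEq (by
      rw [← Nat.card_eq_fintype_card, ← Nat.card_eq_fintype_card]; exact (he ω).symm)⟩
  let π₀ : Perm α := (Equiv.sigmaFiberEquiv (cls A)).symm.trans
    ((Equiv.sigmaCongr e fun ω => (hf ω).some).trans (Equiv.sigmaFiberEquiv (cls B)))
  have hπ₀ : ∀ x, cls B (π₀ x) = e (cls A x) := fun x => ((hf (cls A x)).some ⟨x, rfl⟩).2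
  have hiff : ∀ π : Perm α, (∀ x, cls B (π x) = e (cls A x)) →
      ∀ σ, σ ∈ A ↔ π * σ * π⁻¹ ∈ B := fun π h σ => by
    rw [mem_iff_pattern hA hAle heqA hsA, mem_iff_pattern hB hBle heqB hsB,
      Pattern.transport e.injective π h]
  rcases Int.units_eq_one_or (Perm.sign π₀) with hs | hs
  · exact ⟨π₀, Perm.mem_alternatingGroup.2 hs, hiff _ hπ₀⟩
  · rcases isEmpty_or_nonempty α with hα | ⟨⟨x⟩⟩
    · exact ⟨1, one_mem _, fun σ => by
        rw [Subsingleton.elim σ 1, mul_one, mul_inv_cancel]; exact iff_of_true (one_mem _) (one_mem _)⟩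
    · have hx : 2 ≤ (orbSet A x).card := by
        rw [card_orbSet]; rcases hsA (cls A x) with h | h <;> omega
      obtain ⟨y, hy, hne⟩ := Finset.exists_mem_ne (s := orbSet A x) (by omega) x
      refine ⟨π₀ * Equiv.swap x y, Perm.mem_alternatingGroup.2 ?_, hiff _ fun z => ?_⟩
      · rw [map_mul, hs, Perm.sign_swap hne.symm]; rfl
      · rw [Perm.mul_apply, hπ₀]
        rcases eq_or_ne z x with rfl | hzx
        · rw [Equiv.swap_apply_left, mem_orbSet.1 hy]
        rcases eq_or_ne z y with rfl | hzy
        · rw [Equiv.swap_apply_right, mem_orbSet.1 hy]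
        · rw [Equiv.swap_apply_of_ne_of_ne hzx hzy]

end CfsgLib.AbelianPerm
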