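import Mathlib
import Cfsg.Agent.Lib.AbelianPerm.Structure

/-!
Abelian groups of permutations and of even permutations attaining the largest order.
-/

namespace CfsgLib.AbelianPerm

open Equiv

/-- There is an abelian group of order `c` of permutations of `n` points, all even when `e` holds. -/
def HasAbelian (e : Prop) (n c : ℕ) : Prop :=
  ∃ A : Subgroup (Perm (Fin n)), IsMulCommutative A ∧ (e → A ≤ alternatingGroup (Fin n)) ∧
    Nat.card A = c

theorem HasAbelian.add {e : Prop} {m n c d : ℕ} (hA : HasAbelian e m c) (hB : HasAbelian e n d) :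
    HasAbelian e (m + n) (c * d) := by
  obtain ⟨A, hAc, hAe, hAn⟩ := hA
  obtain ⟨B, hBc, hBe, hBn⟩ := hB
  let φ : Perm (Fin m) × Perm (Fin n) →* Perm (Fin (m + n)) :=
    (Equiv.permCongrHom finSumFinEquiv).toMonoidHom.comp (Perm.sumCongrHom (Fin m) (Fin n))
  have hφ : Function.Injective φ :=
    (Equiv.permCongrHom finSumFinEquiv).injective.comp Perm.sumCongrHom_injective
  refine ⟨(A.prod B).map φ, ⟨⟨?_⟩⟩, fun he => ?_, ?_⟩
  · rintro ⟨_, x, hx, rfl⟩ ⟨_, y, hy, rfl⟩
    refine Subtype.ext ?_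
    show φ x * φ y = φ y * φ x
    rw [← map_mul, ← map_mul]
    refine congrArg φ (Prod.ext ?_ ?_)
    · exact congrArg Subtype.val (hAc.is_comm.comm ⟨x.1, hx.1⟩ ⟨y.1, hy.1⟩)
    · exact congrArg Subtype.val (hBc.is_comm.comm ⟨x.2, hx.2⟩ ⟨y.2, hy.2⟩)
  · rintro _ ⟨x, hx, rfl⟩
    rw [Perm.mem_alternatingGroup]
    show Perm.sign (finSumFinEquiv.permCongr (Perm.sumCongr x.1 x.2)) = 1
    rw [Perm.sign_permCongr, Perm.sign_sumCongr, Perm.mem_alternatingGroup.1 (hAe he hx.1),
      Perm.mem_alternatingGroup.1 (hBe he hx.2), mul_one]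
  · rw [Subgroup.card_map_of_injective hφ, ← hAn, ← hBn, ← Nat.card_prod]
    exact Nat.card_congr (Subgroup.prodEquiv A B).toEquiv

theorem hasAbelian_zero (e : Prop) : HasAbelian e 0 1 :=
  ⟨⊥, ⟨⟨fun a b => Subsingleton.elim _ _⟩⟩, fun _ => bot_le, Subgroup.card_bot⟩

theorem hasAbelian_one (e : Prop) : HasAbelian e 1 1 :=
  ⟨⊥, ⟨⟨fun a b => Subsingleton.elim _ _⟩⟩, fun _ => bot_le, Subgroup.card_bot⟩

theorem hasAbelian_two : HasAbelian False 2 2 := by
  refine ⟨⊤, ⟨⟨fun a b => ?_⟩⟩, False.elim, ?_⟩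
  · exact Subtype.ext ((by decide : ∀ a b : Perm (Fin 2), a * b = b * a) a b)
  · simp [Fintype.card_perm]

theorem hasAbelian_three (e : Prop) : HasAbelian e 3 3 := by
  refine ⟨alternatingGroup (Fin 3), ⟨⟨fun a b => ?_⟩⟩, fun _ => le_rfl, ?_⟩
  · exact (by decide : ∀ a b : alternatingGroup (Fin 3), a * b = b * a) a b
  · rw [Nat.card_eq_fintype_card]; decide

theorem hasAbelian_four (e : Prop) : HasAbelian e 4 4 := by
  have : Fact (Nat.Prime 2) := ⟨Nat.prime_two⟩
  have h12 : Nat.card (alternatingGroup (Fin 4)) = 12 := by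
    rw [Nat.card_eq_fintype_card]; decide
  obtain ⟨K, hK⟩ := Sylow.exists_subgroup_card_pow_prime (G := alternatingGroup (Fin 4)) 2 (n := 2)
    (by rw [h12]; norm_num)
  refine ⟨K.map (alternatingGroup (Fin 4)).subtype, ⟨⟨?_⟩⟩, fun _ => ?_, ?_⟩
  · rintro ⟨_, x, hx, rfl⟩ ⟨_, y, hy, rfl⟩
    refine Subtype.ext ?_
    have := IsPGroup.isMulCommutative_of_card_eq_prime_sq (p := 2) hK
    exact congrArg (fun k : K => ((k : alternatingGroup (Fin 4)) : Perm (Fin 4)))
      (this.is_comm.comm ⟨x, hx⟩ ⟨y, hy⟩)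
  · exact Subgroup.map_subtype_le K
  · rw [Subgroup.card_map_of_injective (Subgroup.subtype_injective _), hK]; norm_num

theorem hasAbelian_five (e : Prop) : HasAbelian e 5 5 := by
  have : Fact (Nat.Prime 5) := ⟨by norm_num⟩
  have h60 : Nat.card (alternatingGroup (Fin 5)) = 60 := by
    rw [nat_card_alternatingGroup, Nat.card_fin]; rfl
  obtain ⟨K, hK⟩ := Sylow.exists_subgroup_card_pow_prime (G := alternatingGroup (Fin 5)) 5 (n := 1)
    (by rw [h60]; norm_num)
  refine ⟨K.map (alternatingGroup (Fin 5)).subtype, ⟨⟨?_⟩⟩, fun _ => ?_, ?_⟩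
  · rintro ⟨_, x, hx, rfl⟩ ⟨_, y, hy, rfl⟩
    refine Subtype.ext ?_
    have : IsCyclic K := isCyclic_of_prime_card (p := 5) (by rw [hK]; norm_num)
    have hc : (⟨x, hx⟩ : K) * ⟨y, hy⟩ = ⟨y, hy⟩ * ⟨x, hx⟩ := by
      obtain ⟨g, hg⟩ := IsCyclic.exists_generator (α := K)
      obtain ⟨i, hi⟩ := hg ⟨x, hx⟩
      obtain ⟨j, hj⟩ := hg ⟨y, hy⟩
      simp only at hi hj
      rw [← hi, ← hj, ← zpow_add, ← zpow_add, add_comm]
    exact congrArg (fun k : K => ((k : alternatingGroup (Fin 5)) : Perm (Fin 5))) hc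
  · exact Subgroup.map_subtype_le K
  · rw [Subgroup.card_map_of_injective (Subgroup.subtype_injective _), hK]; norm_num

theorem hasAbelian_maxProdNoTwo : ∀ n, HasAbelian True n (maxProdNoTwo n) := by
  intro n
  induction n using inductionThree 9 (by norm_num) with
  | hb n h =>
    interval_cases n
    · exact hasAbelian_zero _
    · exact hasAbelian_one _
    · exact (hasAbelian_one _).add (hasAbelian_one _)
    · exact hasAbelian_three _
    · exact hasAbelian_four _
    · exact hasAbelian_five _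
    · exact (hasAbelian_three _).add (hasAbelian_three _)
    · exact (hasAbelian_three _).add (hasAbelian_four _)
    · exact (hasAbelian_four _).add (hasAbelian_four _)
  | hs n h ih =>
    rw [maxProdNoTwo_add_three (by omega), Nat.mul_comm]
    exact ih.add (hasAbelian_three _)

theorem hasAbelian_maxProd : ∀ n, HasAbelian False n (maxProd n) := by
  intro n
  induction n using inductionThree 5 (by norm_num) with
  | hb n h =>
    interval_cases n
    · exact hasAbelian_zero _
    · exact hasAbelian_one _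
    · exact hasAbelian_two
    · exact hasAbelian_three _
    · exact hasAbelian_four _
  | hs n h ih =>
    rw [maxProd_add_three (by omega), Nat.mul_comm]
    exact ih.add (hasAbelian_three _)

/-- Passing between subgroups of the alternating group and groups of even permutations. -/
theorem map_subtype_comm {α : Type*} [Fintype α] [DecidableEq α]
    {A : Subgroup (alternatingGroup α)} (hA : IsMulCommutative A) :
    IsMulCommutative (A.map (alternatingGroup α).subtype) ∧
      A.map (alternatingGroup α).subtype ≤ alternatingGroup α ∧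
      Nat.card (A.map (alternatingGroup α).subtype) = Nat.card A := by
  refine ⟨⟨⟨?_⟩⟩, Subgroup.map_subtype_le A,
    Subgroup.card_map_of_injective (Subgroup.subtype_injective _)⟩
  rintro ⟨_, x, hx, rfl⟩ ⟨_, y, hy, rfl⟩
  exact Subtype.ext (congrArg (fun k : A => ((k : alternatingGroup α) : Perm α))
    (hA.is_comm.comm ⟨x, hx⟩ ⟨y, hy⟩))

theorem isGreatest_alternating (n : ℕ) (hn : 3 ≤ n) :
    IsGreatest {c : ℕ | ∃ A : Subgroup (alternatingGroup (Fin n)),
      IsMulCommutative A ∧ Nat.card A = c} (maxProdNoTwo n) := by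
  classical
  constructor
  · obtain ⟨A, hAc, hAe, hAn⟩ := hasAbelian_maxProdNoTwo n
    refine ⟨A.subgroupOf (alternatingGroup (Fin n)), ⟨⟨?_⟩⟩, ?_⟩
    · rintro ⟨x, hx⟩ ⟨y, hy⟩
      have h : (x : Perm (Fin n)) * y = y * x :=
        congrArg Subtype.val (hAc.is_comm.comm ⟨_, hx⟩ ⟨_, hy⟩)
      exact Subtype.ext (Subtype.ext h)
    · rw [← hAn]
      exact Nat.card_congr (Subgroup.subgroupOfEquivOfLe (hAe trivial)).toEquiv
  · rintro c ⟨A, hA, rfl⟩
    obtain ⟨h1, h2, h3⟩ := map_subtype_comm hA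
    have := Fintype.ofFinite (Orb (A.map (alternatingGroup (Fin n)).subtype))
    have h := (even_bound h1 h2 (by rwa [Fintype.card_fin])).1
    rwa [Fintype.card_fin, h3] at h

theorem isGreatest_perm (n : ℕ) :
    IsGreatest {c : ℕ | ∃ A : Subgroup (Perm (Fin n)), IsMulCommutative A ∧ Nat.card A = c}
      (maxProd n) := by
  refine ⟨?_, ?_⟩
  · obtain ⟨A, hAc, -, hAn⟩ := hasAbelian_maxProd n
    exact ⟨A, hAc, hAn⟩
  · rintro c ⟨A, hA, rfl⟩
    simpa using card_le_maxProd (α := Fin n) hA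

end CfsgLib.AbelianPerm
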